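import Cfsg.Agent.H662.GW.Defs

/-!
# The counting inequality without a normal subgroup of index `p` (helper20, after H662/GW/Defs)

`LX p r s n L Z π a` : as `H662.GW.LW`, but instead of the normal `p'`-subgroup `K` of index `p` only the kernel of
`π` is assumed to be a `p'`-group.
-/

set_option autoImplicit false

open scoped commutatorElement

namespace Cfsg.Agent.H20.GWX

/-- A normal subgroup `L`, irreducible on `W`, with `L / Z` a nondegenerate symplectic space. -/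
structure LX (p r s n : ℕ) {G W Y U : Type*} [Group G] [Finite G] [AddCommGroup W] [Finite W]
    [DistribMulAction G W] [Group Y] [Finite Y] [AddCommGroup U] [Finite U] [DistribMulAction Y U]
    (L Z : Subgroup G) (π : G →* Y) (a : L →* Multiplicative U) : Prop where
  hp : p.Prime
  hr : r.Prime
  hs : s.Prime
  hps : p ≠ s
  hn : 1 ≤ n
  pker : ¬ p ∣ Nat.card π.ker
  faith : ∀ y : Y, (∀ u : U, y • u = u) → y = 1
  nL : L.Normal
  nZ : Z.Normal
  ZL : Z ≤ L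
  nt : Nontrivial W
  expW : ∀ w : W, r • w = 0
  irr : ∀ A : AddSubgroup W, (∀ l ∈ L, ∀ w ∈ A, l • w ∈ A) → A = ⊥ ∨ A = ⊤
  scal : ∀ z ∈ Z, ∀ l ∈ L, ∀ w : W, z • l • w = l • z • w
  expL : ∀ l ∈ L, l ^ s ∈ Z
  comm : ∀ l ∈ L, ∀ l' ∈ L, ⁅l, l'⁆ ∈ Z
  card : Nat.card U = s ^ (2 * n)
  nd : ∀ l ∈ L, (∀ l' ∈ L, ∀ w : W, l • l' • w = l' • l • w) → l ∈ Z
  surj : Function.Surjective a
  ker : ∀ l : L, a l = 1 ↔ (l : G) ∈ Z
  equiv : ∀ (g : G) (l : G) (hl : l ∈ L) (hl' : g * l * g⁻¹ ∈ L),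
    Multiplicative.toAdd (a ⟨g * l * g⁻¹, hl'⟩) = π g • Multiplicative.toAdd (a ⟨l, hl⟩)

end Cfsg.Agent.H20.GWX
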