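import Cfsg.Agent.H748.GW.DimFix

/-!
# Operators of order 3: multiplicities of the eigenvalues, centralizer, determinant (helper20)
-/

set_option autoImplicit false

namespace Cfsg.Agent.H20.GWX

open Module
open Polynomial hiding CC
open Cfsg.Agent.H748.GW (CC mem_CC freeCC finCC split)

universe u

section
variable {F : Type*} [Field F] {W : Type*} [AddCommGroup W] [Module F W] [FiniteDimensional F W]

/-- direct sums, equality -/
theorem split_eq (h : Module.End F W) {A B : Submodule F W} (hAB : IsCompl A B) (hA : ∀ x ∈ A, h x ∈ A)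
    (hB : ∀ x ∈ B, h x ∈ B) (hTA : ∀ T ∈ CC h, ∀ x ∈ A, T x ∈ A) (hTB : ∀ T ∈ CC h, ∀ x ∈ B, T x ∈ B) :
    finrank F (CC (h.restrict hA)) + finrank F (CC (h.restrict hB)) = finrank F (CC h) := by
  refine le_antisymm (split h hAB hA hB) ?_
  have i1 := freeCC (h.restrict hA)
  have i2 := finCC (h.restrict hA)
  have i3 := freeCC (h.restrict hB)
  have i4 := finCC (h.restrict hB)
  rw [← Module.finrank_prod]
  let Φ : CC h →ₗ[F] (CC (h.restrict hA)) × (CC (h.restrict hB)) :=
    { toFun := fun T => (⟨(T : Module.End F W).restrict (hTA T T.2), by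
        rw [mem_CC]
        ext x
        exact LinearMap.congr_fun (mem_CC.1 T.2) (x : W)⟩, ⟨(T : Module.End F W).restrict (hTB T T.2), by
        rw [mem_CC]
        ext x
        exact LinearMap.congr_fun (mem_CC.1 T.2) (x : W)⟩)
      map_add' := fun S T => rfl
      map_smul' := fun c T => rfl }
  refine LinearMap.finrank_le_finrank_of_injective (f := Φ) ?_
  rw [injective_iff_map_eq_zero]
  intro T hT
  have h1 : ∀ x ∈ A, (T : Module.End F W) x = 0 := by
    intro x hx
    have := congrArg (fun z : (CC (h.restrict hA)) × (CC (h.restrict hB)) =>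
      (((z.1 : Module.End F A) ⟨x, hx⟩ : A) : W)) hT
    exact this
  have h2 : ∀ x ∈ B, (T : Module.End F W) x = 0 := by
    intro x hx
    have := congrArg (fun z : (CC (h.restrict hA)) × (CC (h.restrict hB)) =>
      (((z.2 : Module.End F B) ⟨x, hx⟩ : B) : W)) hT
    exact this
  apply Subtype.ext
  ext w
  have hw : w ∈ A ⊔ B := by rw [hAB.sup_eq_top]; trivial
  obtain ⟨x, hx, y, hy, rfl⟩ := Submodule.mem_sup.1 hw
  rw [map_add, h1 x hx, h2 y hy, add_zero]
  rfl

/-- the determinant of a direct sum -/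
theorem det_split (h : Module.End F W) {A B : Submodule F W} (hAB : IsCompl A B) (hA : ∀ x ∈ A, h x ∈ A)
    (hB : ∀ x ∈ B, h x ∈ B) : LinearMap.det h = LinearMap.det (h.restrict hA) * LinearMap.det (h.restrict hB) := by
  rw [← LinearMap.det_prodMap, ← LinearMap.det_conj _ (Submodule.prodEquivOfIsCompl A B hAB)]
  congr 1
  ext w
  obtain ⟨z, rfl⟩ := (Submodule.prodEquivOfIsCompl A B hAB).surjective w
  simp [map_add]

/-- scalars -/
theorem finrank_CC_smul (c : F) (h : Module.End F W) (hc : ∀ w, h w = c • w) :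
    finrank F (CC h) = finrank F W ^ 2 ∧ LinearMap.det h = c ^ finrank F W := by
  have h1 : h = c • LinearMap.id := by
    ext w
    rw [hc]; rfl
  constructor
  · have h2 : CC h = ⊤ := by
      rw [eq_top_iff]
      intro T _
      rw [mem_CC]
      ext w
      rw [Module.End.mul_apply, Module.End.mul_apply, hc, hc, map_smul]
    rw [h2, finrank_top, Module.finrank_linearMap, sq]
  · rw [h1, LinearMap.det_smul, LinearMap.det_id, mul_one]

omit [FiniteDimensional F W] in
theorem mem_ker_sub {g : Module.End F W} {c : F} {w : W} : w ∈ LinearMap.ker (g - c • 1) ↔ g w = c • w := by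
  rw [LinearMap.mem_ker, LinearMap.sub_apply, sub_eq_zero]
  rfl

/-- two eigenvalues -/
theorem two_eig (h : Module.End F W) {α β : F} (hne : α ≠ β) (h0 : ∀ w : W, h (h w) - α • h w = β • (h w - α • w)) :
    ∃ a b : ℕ, a + b = finrank F W ∧ a ^ 2 + b ^ 2 = finrank F (CC h) ∧ LinearMap.det h = α ^ a * β ^ b := by
  set A := LinearMap.ker (h - α • 1) with hAd
  set B := LinearMap.ker (h - β • 1) with hBd
  have hAB : IsCompl A B := by
    constructor
    · rw [Submodule.disjoint_def]
      intro w hw1 hw2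
      rw [hAd, mem_ker_sub] at hw1
      rw [hBd, mem_ker_sub] at hw2
      have h1 : (α - β) • w = 0 := by rw [sub_smul, ← hw1, ← hw2, sub_self]
      exact (smul_eq_zero.1 h1).resolve_left (sub_ne_zero.2 hne)
    · rw [codisjoint_iff, eq_top_iff]
      intro w _
      have hab : α - β ≠ 0 := sub_ne_zero.2 hne
      have h1 : w = (α - β)⁻¹ • (h w - β • w) + (-((α - β)⁻¹) • (h w - α • w)) := by
        have h2 : (α - β)⁻¹ • (h w - β • w) + (-((α - β)⁻¹) • (h w - α • w)) = (α - β)⁻¹ • ((α - β) • w) := by
          rw [neg_smul, ← sub_eq_add_neg, ← smul_sub, sub_smul]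
          congr 1
          abel
        rw [h2, smul_smul, inv_mul_cancel₀ hab, one_smul]
      rw [h1]
      refine Submodule.add_mem_sup (Submodule.smul_mem _ _ ?_) (Submodule.smul_mem _ _ ?_)
      · rw [hAd, mem_ker_sub, map_sub, map_smul]
        have h3 := h0 w
        have h4 : h (h w) = α • h w + β • (h w - α • w) := by rw [← h3]; abel
        rw [h4, smul_sub, smul_sub, smul_smul, smul_smul, mul_comm α β]
        abel
      · rw [hBd, mem_ker_sub, map_sub, map_smul]
        exact h0 w
  have hpres : ∀ (c : F), ∀ T ∈ CC h, ∀ x ∈ LinearMap.ker (h - c • 1), T x ∈ LinearMap.ker (h - c • 1) := by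
    intro c T hT x hx
    rw [mem_ker_sub] at hx ⊢
    have h1 := LinearMap.congr_fun (mem_CC.1 hT) x
    rw [Module.End.mul_apply, Module.End.mul_apply, hx, map_smul] at h1
    exact h1
  have hA : ∀ x ∈ A, h x ∈ A := hpres α h (by rw [mem_CC])
  have hB : ∀ x ∈ B, h x ∈ B := hpres β h (by rw [mem_CC])
  have h1 := split_eq h hAB hA hB (hpres α) (hpres β)
  have h2 := det_split h hAB hA hB
  obtain ⟨h3, h4⟩ := finrank_CC_smul α (h.restrict hA) (fun w => Subtype.ext (mem_ker_sub.1 w.2))
  obtain ⟨h5, h6⟩ := finrank_CC_smul β (h.restrict hB) (fun w => Subtype.ext (mem_ker_sub.1 w.2))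
  refine ⟨finrank F A, finrank F B, Submodule.finrank_add_eq_of_isCompl hAB, ?_, ?_⟩
  · rw [← h3, ← h5, h1]
  · rw [h2, h4, h6]

/-- the irreducible case, equality -/
theorem irr_eq (h : Module.End F W) {f : F[X]} (hf : Irreducible f) (ha : aeval h f = 0) :
    ∃ m : ℕ, f.natDegree * m = finrank F W ∧ f.natDegree * m ^ 2 = finrank F (CC h) := by
  have : Fact (Irreducible f) := ⟨hf⟩
  let φ : AdjoinRoot f →ₐ[F] Module.End F W := Ideal.Quotient.liftₐ (Ideal.span {f}) (aeval h) (by
    intro a ha'
    obtain ⟨b, rfl⟩ := Ideal.mem_span_singleton'.1 ha'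
    rw [map_mul, ha, mul_zero])
  have hφ' : ∀ p : F[X], φ (AdjoinRoot.mk f p) = aeval h p := fun p => rfl
  have hφ : φ (AdjoinRoot.root f) = h := by
    have h1 : φ (AdjoinRoot.mk f X) = aeval h X := rfl
    rw [aeval_X] at h1
    exact h1
  let _ : Module (AdjoinRoot f) W := Module.compHom W φ.toRingHom
  have hsm : ∀ (a : AdjoinRoot f) (w : W), a • w = φ a w := fun a w => rfl
  have : IsScalarTower F (AdjoinRoot f) W := ⟨fun c a w => by
    rw [hsm, hsm, map_smul, LinearMap.smul_apply]⟩
  have h1 : finrank F (AdjoinRoot f) = f.natDegree := by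
    rw [(AdjoinRoot.powerBasis hf.ne_zero).finrank, AdjoinRoot.powerBasis_dim]
  have hfin : Module.Finite (AdjoinRoot f) W := Module.Finite.right F (AdjoinRoot f) W
  have h2 := Module.finrank_mul_finrank F (AdjoinRoot f) W
  have h3 : finrank (AdjoinRoot f) (W →ₗ[AdjoinRoot f] W) = finrank (AdjoinRoot f) W * finrank (AdjoinRoot f) W :=
    Module.finrank_linearMap _ _ _ _
  have h4 := Module.finrank_mul_finrank F (AdjoinRoot f) (W →ₗ[AdjoinRoot f] W)
  have hcomm : ∀ T ∈ CC h, ∀ p : F[X], ∀ w : W, T (aeval h p w) = aeval h p (T w) := by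
    intro T hT p
    induction p using Polynomial.induction_on' with
    | add p q hp hq =>
      intro w
      rw [map_add, LinearMap.add_apply, LinearMap.add_apply, map_add, hp, hq]
    | monomial n c =>
      intro w
      rw [aeval_monomial, Module.End.mul_apply, Module.End.mul_apply, Module.algebraMap_end_apply,
        Module.algebraMap_end_apply, map_smul]
      congr 1
      induction n generalizing w with
      | zero => rfl
      | succ n ih =>
        rw [pow_succ, Module.End.mul_apply, Module.End.mul_apply, ih]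
        congr 1
        exact (LinearMap.congr_fun (mem_CC.1 hT) w).symm
  let Ψ : (W →ₗ[AdjoinRoot f] W) ≃ₗ[F] CC h :=
    { toFun := fun T => ⟨T.restrictScalars F, by
        rw [mem_CC]
        ext w
        show h (T w) = T (h w)
        rw [← hφ, ← hsm, ← hsm, map_smul]⟩
      map_add' := fun S T => rfl
      map_smul' := fun c T => rfl
      invFun := fun T =>
        { toFun := fun w => (T : Module.End F W) w
          map_add' := fun a b => map_add _ a b
          map_smul' := by
            intro a w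
            obtain ⟨p, rfl⟩ := AdjoinRoot.mk_surjective a
            rw [hsm, hφ', RingHom.id_apply, hsm, hφ']
            exact hcomm T T.2 p w }
      left_inv := fun T => rfl
      right_inv := fun T => rfl }
  have h5 := Ψ.finrank_eq
  refine ⟨finrank (AdjoinRoot f) W, ?_, ?_⟩
  · rw [← h1, h2]
  · rw [← h5, ← h4, h3, h1, sq]

/-- **operators of order 3** -/
theorem cube (g : Module.End F W) (hg : g ^ 3 = 1) (h3 : (3 : F) ≠ 0) :
    ∃ m1 m2 : ℕ, finrank F (LinearMap.ker (g - 1)) + m1 + m2 = finrank F W ∧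
      finrank F (LinearMap.ker (g - 1)) ^ 2 + m1 ^ 2 + m2 ^ 2 =
        finrank F (Subalgebra.centralizer F ({g} : Set (Module.End F W))) ∧
      ((m1 = m2 ∧ LinearMap.det g = 1) ∨ ∃ ω : F, ω ^ 2 + ω + 1 = 0 ∧ LinearMap.det g = ω ^ (m1 + 2 * m2)) := by
  have hCC : finrank F (Subalgebra.centralizer F ({g} : Set (Module.End F W))) = finrank F (CC g) := rfl
  rw [hCC]
  have hgw : ∀ w : W, g (g (g w)) = w := fun w => by
    have := LinearMap.congr_fun hg w
    rw [pow_succ, pow_succ, pow_one] at this
    exact this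
  set A := LinearMap.ker (g - 1) with hAd
  set B := LinearMap.ker (g * g + g + 1) with hBd
  have hmA : ∀ w, w ∈ A ↔ g w = w := by
    intro w
    rw [hAd, LinearMap.mem_ker, LinearMap.sub_apply, sub_eq_zero]
    rfl
  have hmB : ∀ w, w ∈ B ↔ g (g w) + g w + w = 0 := fun w => Iff.rfl
  have hAB : IsCompl A B := by
    constructor
    · rw [Submodule.disjoint_def]
      intro w hw1 hw2
      rw [hmA] at hw1
      rw [hmB, hw1, hw1] at hw2
      have h1 : (3 : F) • w = 0 := by
        rw [← hw2, show (3 : F) = 1 + 1 + 1 by norm_num, add_smul, add_smul, one_smul]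
      exact (smul_eq_zero.1 h1).resolve_left h3
    · rw [codisjoint_iff, eq_top_iff]
      intro w _
      have h1 : w = (3 : F)⁻¹ • (g (g w) + g w + w) + (3 : F)⁻¹ • ((3 : F) • w - (g (g w) + g w + w)) := by
        rw [← smul_add, add_sub_cancel, smul_smul, inv_mul_cancel₀ h3, one_smul]
      rw [h1]
      refine Submodule.add_mem_sup (Submodule.smul_mem _ _ ?_) (Submodule.smul_mem _ _ ?_)
      · rw [hmA, map_add, map_add, hgw]
        abel
      · rw [hmB, map_sub, map_sub, map_add, map_add, map_add, map_add, map_smul, map_smul, hgw, hgw]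
        have h2 : (3 : F) • g (g w) = g (g w) + g (g w) + g (g w) := by
          rw [show (3 : F) = 1 + 1 + 1 by norm_num, add_smul, add_smul, one_smul]
        have h4 : (3 : F) • g w = g w + g w + g w := by
          rw [show (3 : F) = 1 + 1 + 1 by norm_num, add_smul, add_smul, one_smul]
        have h5 : (3 : F) • w = w + w + w := by
          rw [show (3 : F) = 1 + 1 + 1 by norm_num, add_smul, add_smul, one_smul]
        rw [h2, h4, h5]
        abel
  have hTA : ∀ T ∈ CC g, ∀ x ∈ A, T x ∈ A := by
    intro T hT x hx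
    rw [hmA] at hx ⊢
    have h1 := LinearMap.congr_fun (mem_CC.1 hT) x
    rw [Module.End.mul_apply, Module.End.mul_apply, hx] at h1
    exact h1
  have hTB : ∀ T ∈ CC g, ∀ x ∈ B, T x ∈ B := by
    intro T hT x hx
    rw [hmB] at hx ⊢
    have h1 : ∀ w, g (T w) = T (g w) := fun w => LinearMap.congr_fun (mem_CC.1 hT) w
    rw [h1, h1, ← map_add, ← map_add, hx, map_zero]
  have hA : ∀ x ∈ A, g x ∈ A := hTA g (by rw [mem_CC])
  have hB : ∀ x ∈ B, g x ∈ B := hTB g (by rw [mem_CC])
  have e1 := split_eq g hAB hA hB hTA hTB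
  have e2 := det_split g hAB hA hB
  obtain ⟨e3, e4⟩ := finrank_CC_smul (1 : F) (g.restrict hA) (fun w => Subtype.ext (by
    rw [one_smul]; exact (hmA _).1 w.2))
  have e5 := Submodule.finrank_add_eq_of_isCompl hAB
  rw [one_pow] at e4
  rw [e4, one_mul] at e2
  by_cases hω : ∃ ω : F, ω ^ 2 + ω + 1 = 0
  · obtain ⟨ω, hω⟩ := hω
    have hω3 : ω ^ 3 = 1 := by
      have : ω ^ 3 - 1 = (ω - 1) * (ω ^ 2 + ω + 1) := by ring
      rw [hω, mul_zero] at this
      exact sub_eq_zero.1 this
    have hne : ω ≠ ω ^ 2 := by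
      intro h1
      apply h3
      have hω0 : ω ≠ 0 := by
        rintro rfl
        norm_num at hω
      have h2 : ω = 1 := by
        have : ω * 1 = ω * ω := by rw [mul_one, ← sq]; exact h1
        exact (mul_left_cancel₀ hω0 this).symm
      rw [h2] at hω
      norm_num at hω
      linear_combination hω
    obtain ⟨a, b, f1, f2, f3⟩ := two_eig (g.restrict hB) hne (by
      intro w
      apply Subtype.ext
      show g (g w) - ω • g w = ω ^ 2 • (g w - ω • (w : W))
      have hw := (hmB _).1 w.2
      have h4 : g (g (w : W)) = -(g w) - w := by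
        have : g (g (w : W)) + (g w + w) = 0 := by rw [← add_assoc]; exact hw
        rw [eq_neg_of_add_eq_zero_left this]; abel
      rw [h4, smul_sub, smul_smul, ← pow_succ, hω3, one_smul]
      have h5 : ω ^ 2 = -ω - 1 := by linear_combination hω
      rw [h5, sub_smul, neg_smul, one_smul]
      abel)
    refine ⟨a, b, ?_, ?_, Or.inr ⟨ω, hω, ?_⟩⟩
    · rw [← e5, ← f1]; ring
    · rw [← e1, e3, ← f2]; ring
    · rw [e2, f3, ← pow_mul, ← pow_add]
  · have hirr : Irreducible (X ^ 2 + X + 1 : F[X]) := by
      have hm : (X ^ 2 + X + 1 : F[X]).Monic := by monicity!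
      have hd : (X ^ 2 + X + 1 : F[X]).natDegree = 2 := by compute_degree!
      rw [hm.irreducible_iff_roots_eq_zero_of_degree_le_three (by rw [hd]) (by rw [hd]; norm_num)]
      rw [Multiset.eq_zero_iff_forall_notMem]
      intro ω hroot
      rw [mem_roots hm.ne_zero, IsRoot.def] at hroot
      apply hω
      refine ⟨ω, ?_⟩
      simpa using hroot
    have hd : (X ^ 2 + X + 1 : F[X]).natDegree = 2 := by compute_degree!
    obtain ⟨m, f1, f2⟩ := irr_eq (g.restrict hB) hirr (by
      rw [map_add, map_add, map_pow, aeval_X, map_one, sq]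
      ext w
      exact (hmB _).1 w.2)
    rw [hd] at f1 f2
    refine ⟨m, m, ?_, ?_, Or.inl ⟨rfl, ?_⟩⟩
    · rw [← e5, ← f1]; ring
    · rw [← e1, e3, ← f2]; ring
    · have h4 : LinearMap.det g ^ 3 = 1 := by rw [← map_pow, hg, map_one]
      have h5 : (LinearMap.det g - 1) * (LinearMap.det g ^ 2 + LinearMap.det g + 1) = 0 := by
        linear_combination h4
      rcases mul_eq_zero.1 h5 with h6 | h6
      · exact sub_eq_zero.1 h6
      · exact absurd ⟨_, h6⟩ hω

end

end Cfsg.Agent.H20.GWX
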